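import Cfsg.Agent.MultOMinusEightTwo.Group
import Cfsg.Agent.MultOMinusEightTwo.Data

/-!
# Checks of the certificates for `Ω₈⁻(2)`
-/

set_option autoImplicit false
set_option Elab.async false
set_option maxRecDepth 20000

namespace CfsgLib.OMinusEightTwo

/-- The words are allowed and have the stated codes. -/
def elsOk (ws : List (List ℕ)) (cs : List ℕ) : Bool :=
  Nat.beq ws.length cs.length &&
    (List.range ws.length).all fun i =>
      okW (ws.getD i []) && Nat.beq (wcode (ws.getD i [])) (cs.getD i 0)

/-- The rules and the fusions for `2`. -/
def relTwo : Bool :=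
  ((List.range 12).all fun b => (List.range (b + 1)).all fun a =>
      Nat.beq (cprod codes2 [b, a]) (cprod codes2 (cert2.rule b a))) &&
    (List.range cert2.fus.length).all fun f => (List.range 12).all fun s =>
      Nat.ble 12 (cert2.img f s) ||
        Nat.beq (cprod codes2 [12 + f, s]) (cprod codes2 [cert2.img f s, 12 + f])

/-- The rules and the fusions for an odd prime. -/
def relOdd (C : Schur.Pc.Cert) (cs : List ℕ) : Bool :=
  (C.rules.all fun q => Nat.beq (cprod cs q.1) (cprod cs q.2)) &&
    (List.range C.fus.length).all fun f => (List.range C.fusW).all fun s =>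
      Nat.beq (cprod cs ((C.n + f) :: (C.fus.getD f ([], [])).1.getD s []))
        (cprod cs ((C.fus.getD f ([], [])).2.getD s [] ++ [C.n + f]))

/-- The keys of the normal words are distinct. -/
def keysOk (cs ps : List ℕ) (p n : ℕ) : Bool :=
  (ps.all fun q => Nat.blt q 64) &&
    distinct ((leaves cs p n 0 (ChevSimple.Two.oneC 8)).map fun K => keyOf K ps) 0

theorem els2_ok : elsOk words2 codes2 = true := by decide +kernel

theorem els3_ok : elsOk words3 codes3 = true := by decide +kernel

theorem rel2_ok : relTwo = true := by decide +kernel

theorem rel3_ok : relOdd cert3 codes3 = true := by decide +kernel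

theorem cert2_eqs : cert2.eqsCheck = true := by decide +kernel

theorem cert2_lin : cert2.linCheck = true := by decide +kernel

theorem cert3_check : cert3.check = true := by decide +kernel

theorem keys2_ok : keysOk codes2 pos2 2 12 = true := by decide +kernel

theorem keys3_ok : keysOk codes3 pos3 3 4 = true := by decide +kernel

end CfsgLib.OMinusEightTwo
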