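import Cfsg.Agent.ChevSimple.Two.Bits
import Cfsg.Agent.Schur.PcClosure
import Cfsg.Prelude.Def_Classical

/-!
# Packed matrices of size eight over the field with two elements
-/

set_option autoImplicit false

namespace CfsgLib.OMinusEightTwo

open CfsgLib.ChevSimple.Two

/-- The index type. -/
abbrev I8 : Type := (Fin 3 ⊕ Fin 3) ⊕ Fin 2

/-- The numbering of the coordinates. -/
def eI : I8 ≃ Fin 8 := (finSumFinEquiv.sumCongr (Equiv.refl (Fin 2))).trans finSumFinEquiv

/-- The position of a coordinate. -/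
def pI (a : I8) : ℕ := eI a

theorem pI_lt (a : I8) : pI a < 8 := (eI a).isLt

/-- The matrix of a code: eight rows of eight bits. -/
def toM (K : ℕ) : Matrix I8 I8 (ZMod 2) :=
  Matrix.of fun a b => bit (digit 8 K (pI a)) (pI b)

theorem sum_pI {M : Type*} [AddCommMonoid M] (f : ℕ → M) :
    ∑ a : I8, f (pI a) = ∑ k ∈ Finset.range 8, f k := by
  rw [← Fin.sum_univ_eq_sum_range, ← Equiv.sum_comp eI]
  rfl

theorem toM_mulC (K L : ℕ) : toM (mulC 8 K L) = toM K * toM L := by
  ext a b
  rw [Matrix.mul_apply]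
  simp only [toM, Matrix.of_apply, mulC]
  rw [digit_pack _ _ _ _ (pI_lt a), bit_mod _ _ _ (pI_lt b), bit_rowMul,
    sum_pI (fun k => bit (digit 8 K (pI a)) k * bit (digit 8 L k) (pI b))]

theorem toM_oneC : toM (oneC 8) = 1 := by
  ext a b
  simp only [toM, Matrix.of_apply, oneC]
  rw [digit_pack _ _ _ _ (pI_lt a), bit_mod _ _ _ (pI_lt b), bit, Nat.testBit_two_pow,
    Matrix.one_apply]
  by_cases h : a = b
  · simp [h]
  · have : pI a ≠ pI b := fun e => h (eI.injective (Fin.ext e))
    simp [h, this]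

/-- The vector of a number. -/
def vec (x : ℕ) : I8 → ZMod 2 := fun a => bit x (pI a)

/-- The partner coordinates of a packed vector. -/
def polRow (x : ℕ) : ℕ :=
  Nat.lor (Nat.lor (x / 8 % 8) (x % 8 * 8)) (Nat.lor (x / 64 % 2 * 128) (x / 128 % 2 * 64))

/-- The code of a reflection. -/
def rC (x : ℕ) : ℕ :=
  pack 8 (fun i => 2 ^ i ^^^ (bif x.testBit i then polRow x else 0)) 8

/-- The code of a product of reflections. -/
def wcode (w : List ℕ) : ℕ := wordC 8 rC w

/-- The entries of a code at the listed positions, packed. -/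
def keyOf (K : ℕ) : List ℕ → ℕ
  | [] => 0
  | q :: ps => (bif K.testBit q then 1 else 0) + 2 * keyOf K ps

theorem testBit_eq_of_toM {K L : ℕ} (h : toM K = toM L) {q : ℕ} (hq : q < 64) :
    K.testBit q = L.testBit q := by
  have h1 := congrFun (congrFun h (eI.symm ⟨q / 8, by omega⟩)) (eI.symm ⟨q % 8, by omega⟩)
  simp only [toM, Matrix.of_apply, pI, Equiv.apply_symm_apply, bit, digit,
    Nat.testBit_mod_two_pow, Nat.testBit_div_two_pow, show q % 8 < 8 by omega, decide_true,
    Bool.true_and, show q % 8 + 8 * (q / 8) = q by omega] at h1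
  revert h1
  cases K.testBit q <;> cases L.testBit q <;> simp

theorem keyOf_eq_of_toM {K L : ℕ} (h : toM K = toM L) : ∀ ps : List ℕ, (∀ q ∈ ps, q < 64) →
    keyOf K ps = keyOf L ps
  | [], _ => rfl
  | q :: ps, hps => by
    rw [keyOf, keyOf, testBit_eq_of_toM h (hps q List.mem_cons_self),
      keyOf_eq_of_toM h ps fun r hr => hps r (List.mem_cons_of_mem _ hr)]

/-- The product of codes along a word. -/
def cprod (cs : List ℕ) (w : List ℕ) : ℕ :=
  w.foldl (fun K i => mulC 8 K (cs.getD i (oneC 8))) (oneC 8)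

/-- The codes of the normal words, computed along the tree of their prefixes. -/
def leaves (cs : List ℕ) (p : ℕ) : ℕ → ℕ → ℕ → List ℕ
  | 0, _, K => [K]
  | d + 1, i, K => (List.range p).flatMap fun e =>
      leaves cs p d (i + 1)
        ((List.replicate e i).foldl (fun K i => mulC 8 K (cs.getD i (oneC 8))) K)

theorem leaves_eq (cs : List ℕ) (p : ℕ) : ∀ d i K, leaves cs p d i K =
    (Schur.Pc.normalWords p d i).map
      fun w => w.foldl (fun K i => mulC 8 K (cs.getD i (oneC 8))) K
  | 0, i, K => rfl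
  | d + 1, i, K => by
    simp only [leaves, Schur.Pc.normalWords, List.map_flatMap, List.map_map, leaves_eq cs p d,
      Function.comp_def, List.foldl_append]

/-- Pairwise distinct numbers, by a mask. -/
def distinct : List ℕ → ℕ → Bool
  | [], _ => true
  | a :: l, acc => !Nat.testBit acc a && distinct l (Nat.lor acc (Nat.shiftLeft 1 a))

theorem distinct_sound : ∀ (l : List ℕ) (acc : ℕ), distinct l acc = true →
    l.Nodup ∧ ∀ a ∈ l, acc.testBit a = false
  | [], _, _ => by simp
  | a :: l, acc, h => by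
    simp only [distinct, Bool.and_eq_true, Bool.not_eq_true'] at h
    obtain ⟨h1, h2⟩ := distinct_sound l _ h.2
    have h3 : ∀ b ∈ l, acc.testBit b = false ∧ b ≠ a := by
      intro b hb
      have h4 := h2 b hb
      rw [show Nat.lor acc (Nat.shiftLeft 1 a) = acc ||| 1 <<< a from rfl, Nat.testBit_or,
        Bool.or_eq_false_iff, Nat.shiftLeft_eq, Nat.one_mul] at h4
      refine ⟨h4.1, fun e => ?_⟩
      rw [e, Nat.testBit_two_pow_self] at h4
      simp at h4
    refine ⟨List.nodup_cons.2 ⟨fun ha => (h3 a ha).2 rfl, h1⟩, ?_⟩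
    intro b hb
    rcases List.mem_cons.1 hb with rfl | hb
    exacts [h.1, (h3 b hb).1]

end CfsgLib.OMinusEightTwo
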