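import Cfsg.Agent.MultOMinusEightTwo.Code
import Cfsg.Agent.Dickson.Matrix
import Cfsg.Agent.Forms4.POmegaOrders
import Cfsg.Agent.Forms.SmallOrth

/-!
# `Ω₈⁻(2)` as the even products of reflections
-/

set_option autoImplicit false
set_option linter.style.haveILetI false

namespace CfsgLib.OMinusEightTwo

open CfsgLib.ChevSimple.Two CfsgLib.Spinor CfsgLib.StdForms QuadraticMap

/-- The quadratic form. -/
noncomputable abbrev Q8 : QuadraticForm (ZMod 2) (I8 → ZMod 2) := minusQ 3 (ZMod 2) 1 1

/-- The form, computably. -/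
abbrev qf : (I8 → ZMod 2) → ZMod 2 := Cfsg.quadFormMinus 3 (ZMod 2) 1 1

theorem coe_Q8 : ⇑Q8 = qf := coe_minusQ 3 1 1

theorem Q8_nondegenerate : (polarBilin Q8).Nondegenerate :=
  minusQ_nondegenerate 3 (by decide)

theorem five_le : 5 ≤ Module.finrank (ZMod 2) (I8 → ZMod 2) := by
  rw [Module.finrank_fintype_fun_eq_card]; decide

/-- The orthogonal group. -/
abbrev O8 : Type := ↥(Dickson.orth Q8)

/-- The commutator subgroup of the orthogonal group. -/
abbrev G8 : Type := ↥(commutator O8)

/-- The reflection of a packed vector. -/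
noncomputable def rf (x : ℕ) : O8 := if h : Q8 (vec x) = 1 then Dickson.refl (vec x) h else 1

/-- The matrix of an orthogonal map. -/
noncomputable def mat : O8 →* Matrix I8 I8 (ZMod 2) :=
  ((Units.coeHom _).comp (Cfsg.isometryGroup (ZMod 2) ⇑Q8).subtype).comp
    (Dickson.toOrth Q8).symm.toMonoidHom

theorem mat_mulVec (g : O8) (v : I8 → ZMod 2) :
    Matrix.mulVec (mat g) v = (g : (I8 → ZMod 2) ≃ₗ[ZMod 2] (I8 → ZMod 2)) v := by
  have := Dickson.toOrth_apply Q8 ((Dickson.toOrth Q8).symm g) v
  rw [MulEquiv.apply_symm_apply] at this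
  exact this.symm

theorem mat_injective : Function.Injective mat := fun g h e => by
  refine Subtype.ext (LinearEquiv.ext fun v => ?_)
  rw [← mat_mulVec, ← mat_mulVec, e]

/-- The entry of a reflection. -/
def rEnt (x : ℕ) (i j : I8) : ZMod 2 :=
  ((Pi.single j 1 : I8 → ZMod 2) +
    (qf (vec x + Pi.single j 1) - qf (vec x) - qf (Pi.single j 1)) • vec x) i

noncomputable instance finite_O8 : Finite O8 := Finite.of_injective mat mat_injective

/-- A packed vector is non-singular and its reflection has the stated code. -/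
def rChk (x : ℕ) : Bool :=
  decide (qf (vec x) = 1) &&
    (List.finRange 8).all fun i => (List.finRange 8).all fun j =>
      decide (toM (rC x) (eI.symm i) (eI.symm j) = rEnt x (eI.symm i) (eI.symm j))

theorem rChk_sound {x : ℕ} (hx : rChk x = true) :
    qf (vec x) = 1 ∧ ∀ i j, toM (rC x) i j = rEnt x i j := by
  simp only [rChk, Bool.and_eq_true, List.all_eq_true, decide_eq_true_eq] at hx
  refine ⟨hx.1, fun i j => ?_⟩
  simpa using hx.2 (eI i) (List.mem_finRange _) (eI j) (List.mem_finRange _)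

theorem mat_rf {x : ℕ} (hx : rChk x = true) : mat (rf x) = toM (rC x) := by
  replace hx := rChk_sound hx
  have h1 : Q8 (vec x) = 1 := by rw [coe_Q8]; exact hx.1
  rw [rf, dif_pos h1]
  ext i j
  have h := congrFun (mat_mulVec (Dickson.refl (vec x) h1) (Pi.single j 1)) i
  rw [Matrix.mulVec_single_one, Dickson.refl_apply] at h
  rw [hx.2 i j, rEnt, show mat (Dickson.refl (vec x) h1) i j = _ from h]
  simp only [QuadraticMap.polar, coe_Q8]

/-- All letters are checked and the length is even. -/
def okW (w : List ℕ) : Bool := w.length % 2 == 0 && w.all rChk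

theorem parity_prod : ∀ w : List ℕ, w.all rChk = true →
    Dickson.parity (w.map rf).prod = (w.length : ZMod 2)
  | [], _ => by simp [Dickson.parity_one]
  | x :: w, h => by
    simp only [List.all_cons, Bool.and_eq_true] at h
    have hx : Q8 (vec x) = 1 := by
      rw [coe_Q8]; exact (rChk_sound h.1).1
    rw [List.map_cons, List.prod_cons, Dickson.parity_mul Q8_nondegenerate five_le,
      parity_prod w h.2, rf, dif_pos hx, Dickson.parity_refl Q8_nondegenerate, List.length_cons,
      Nat.cast_succ, add_comm]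

theorem prod_mem {w : List ℕ} (h : okW w = true) : (w.map rf).prod ∈ commutator O8 := by
  simp only [okW, Bool.and_eq_true, beq_iff_eq] at h
  rw [Dickson.mem_commutator_iff Q8_nondegenerate five_le, parity_prod w h.2,
    ZMod.natCast_eq_zero_iff_even, Nat.even_iff]
  exact h.1

/-- The element of a word in packed vectors. -/
noncomputable def el (w : List ℕ) : G8 :=
  if h : okW w = true then ⟨(w.map rf).prod, prod_mem h⟩ else 1

/-- The matrix of an element. -/
noncomputable def matG : G8 →* Matrix I8 I8 (ZMod 2) := mat.comp (commutator O8).subtype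

theorem matG_injective : Function.Injective matG := fun _ _ e =>
  Subtype.ext (mat_injective e)

theorem mat_prod : ∀ (w : List ℕ) (_ : w.all rChk = true) (K : ℕ),
    toM K * mat (w.map rf).prod = toM (w.foldl (fun K r => mulC 8 K (rC r)) K)
  | [], _, K => by simp
  | x :: w, h, K => by
    simp only [List.all_cons, Bool.and_eq_true] at h
    rw [List.map_cons, List.prod_cons, map_mul, mat_rf h.1, ← mul_assoc, ← toM_mulC,
      mat_prod w h.2, List.foldl_cons]

theorem matG_el {w : List ℕ} (h : okW w = true) : matG (el w) = toM (wcode w) := by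
  have h2 := h
  simp only [okW, Bool.and_eq_true] at h2
  have := mat_prod w h2.2 (oneC 8)
  rw [toM_oneC, one_mul] at this
  rw [el, dif_pos h]
  exact this

theorem card_pOmega : Nat.card (Cfsg.POmega (ZMod 2) qf) = 197406720 := by
  have h := Forms4.card_pOmegaMinus (F := ZMod 2) (ZMod.card 2) 4 le_rfl 1 1 (by decide)
  norm_num [Finset.prod_range_succ] at h
  exact h

theorem center_omega : Subgroup.center ↥(Cfsg.Omega (ZMod 2) ⇑Q8) = ⊥ :=
  Subgroup.card_eq_one.1 (Forms4.card_center_omega_one Q8_nondegenerate (by decide)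
    (Forms4.minusPairs 3 (by norm_num) 1 1) fun _ _ _ => by decide)

theorem equiv_pOmega : Nonempty (G8 ≃* Cfsg.POmega (ZMod 2) qf) := by
  have hmap : (commutator ↥(Cfsg.isometryGroup (ZMod 2) ⇑Q8)).map
      (Dickson.toOrth Q8).toMonoidHom = commutator O8 := by
    rw [commutator_def, commutator_def, Subgroup.map_commutator,
      Subgroup.map_top_of_surjective _ (Dickson.toOrth Q8).surjective]
  let e1 : ↥(Cfsg.Omega (ZMod 2) ⇑Q8) ≃* G8 :=
    ((Dickson.toOrth Q8).subgroupMap _).trans (MulEquiv.subgroupCongr hmap)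
  have e2 : Cfsg.POmega (ZMod 2) ⇑Q8 ≃* ↥(Cfsg.Omega (ZMod 2) ⇑Q8) :=
    (QuotientGroup.quotientMulEquivOfEq center_omega).trans QuotientGroup.quotientBot
  rw [← coe_Q8]
  exact ⟨e1.symm.trans e2.symm⟩

theorem card_G8 : Nat.card G8 = 197406720 := by
  obtain ⟨e⟩ := equiv_pOmega
  rw [Nat.card_congr e.toEquiv, card_pOmega]

theorem equiv_pOmega_field {F : Type*} [Field F] [Fintype F] (hF : Fintype.card F = 2) (a b : F)
    (hab : ∀ z₁ z₂ : F, z₁ ^ 2 + a * z₁ * z₂ + b * z₂ ^ 2 = 0 → z₁ = 0 ∧ z₂ = 0) :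
    Nonempty (G8 ≃* Cfsg.POmega F (Cfsg.quadFormMinus 3 F a b)) := by
  let e : ZMod 2 ≃+* F := FiniteField.ringEquivOfCardEq (by simp [hF])
  have hb : b = 1 := by
    obtain ⟨t, rfl⟩ := e.surjective b
    have ht : t = 0 ∨ t = 1 := (by decide : ∀ t : ZMod 2, t = 0 ∨ t = 1) t
    rcases ht with rfl | rfl
    · exact absurd (hab 0 1 (by simp)).2 one_ne_zero
    · exact map_one e
  have ha : a = 1 := by
    obtain ⟨t, rfl⟩ := e.surjective a
    have ht : t = 0 ∨ t = 1 := (by decide : ∀ t : ZMod 2, t = 0 ∨ t = 1) t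
    rcases ht with rfl | rfl
    · subst hb
      have h2 : (1 : F) + 1 = 0 := by
        rw [← map_one e, ← map_add, show (1 : ZMod 2) + 1 = 0 by decide, map_zero]
      exact absurd (hab 1 1 (by simpa using h2)).1 one_ne_zero
    · exact map_one e
  subst ha hb
  have hq : ∀ v, Cfsg.quadFormMinus 3 F 1 1 (fun i => e (v i)) = e (qf v) := fun v => by
    have sq : ∀ t : ZMod 2, e t ^ 2 = e t := fun t => by
      rw [← map_pow, (by decide : ∀ t : ZMod 2, t ^ 2 = t) t]
    simp [Cfsg.quadFormMinus, map_add, map_mul, map_sum, sq]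
  obtain ⟨e0⟩ := equiv_pOmega
  let f := Forms.isometryGroupCongr e qf (Cfsg.quadFormMinus 3 F 1 1) hq
  have hmap : (commutator ↥(Cfsg.isometryGroup (ZMod 2) qf)).map f.toMonoidHom = commutator _ := by
    rw [commutator_def, commutator_def, Subgroup.map_commutator,
      Subgroup.map_top_of_surjective _ f.surjective]
  let f' : ↥(Cfsg.Omega (ZMod 2) qf) ≃* ↥(Cfsg.Omega F (Cfsg.quadFormMinus 3 F 1 1)) :=
    (f.subgroupMap _).trans (MulEquiv.subgroupCongr hmap)
  refine ⟨e0.trans (QuotientGroup.congr _ _ f' ?_)⟩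
  ext y
  rw [Subgroup.mem_map, Subgroup.mem_center_iff]
  constructor
  · rintro ⟨x, hx, rfl⟩ g
    obtain ⟨g, rfl⟩ := f'.surjective g
    exact (map_mul f' g x).symm.trans ((congrArg f' (Subgroup.mem_center_iff.1 hx g)).trans
      (map_mul f' x g))
  · intro hy
    obtain ⟨x, rfl⟩ := f'.surjective y
    exact ⟨x, Subgroup.mem_center_iff.2 fun g => f'.injective (by rw [map_mul, map_mul]; exact hy (f' g)), rfl⟩

end CfsgLib.OMinusEightTwo
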