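import Cfsg.Agent.MultOMinusEightTwo.Checks
import Cfsg.Agent.Schur.Basic
import Cfsg.Agent.CoverTab.Transfer

/-!
# The Schur multiplier of `PΩ₈⁻(2)` is trivial
-/

set_option autoImplicit false
set_option linter.style.haveILetI false

namespace CfsgLib.OMinusEightTwo

open CfsgLib.ChevSimple.Two (mulC oneC)
open CfsgLib.Schur

attribute [local irreducible] el matG

/-- The elements of a list of words. -/
noncomputable def gen (ws : List (List ℕ)) (i : ℕ) : G8 := el (ws.getD i [])

theorem matG_gen {ws : List (List ℕ)} {cs : List ℕ} (h : elsOk ws cs = true) (i : ℕ) :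
    matG (gen ws i) = toM (cs.getD i (oneC 8)) := by
  simp only [elsOk, Bool.and_eq_true, List.all_eq_true, List.mem_range] at h
  have hl : ws.length = cs.length := Nat.eq_of_beq_eq_true h.1
  by_cases hi : i < ws.length
  · rw [gen, matG_el (h.2 i hi).1, Nat.eq_of_beq_eq_true (h.2 i hi).2,
      List.getD_eq_getElem cs _ (hl ▸ hi), List.getD_eq_getElem cs _ (hl ▸ hi)]
  · rw [gen, List.getD_eq_default _ _ (Nat.le_of_not_lt hi),
      List.getD_eq_default _ _ (hl ▸ Nat.le_of_not_lt hi), matG_el (by rfl)]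
    rfl

variable {ws : List (List ℕ)} {cs : List ℕ}

theorem matG_ev (h : elsOk ws cs = true) (w : List ℕ) :
    matG (Pc.ev (gen ws) w) = toM (cprod cs w) := by
  have key : ∀ K, toM K * matG (Pc.ev (gen ws) w) =
      toM (w.foldl (fun K i => mulC 8 K (cs.getD i (oneC 8))) K) := by
    induction w with
    | nil => simp
    | cons i w ih =>
      intro K
      rw [Pc.ev_cons, map_mul, matG_gen h, List.foldl_cons, ← ih, toM_mulC, mul_assoc]
  have := key (oneC 8)
  rwa [toM_oneC, one_mul] at this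

theorem ev_eq_of_cprod (h : elsOk ws cs = true) {u w : List ℕ}
    (he : Nat.beq (cprod cs u) (cprod cs w) = true) :
    Pc.ev (gen ws) u = Pc.ev (gen ws) w :=
  matG_injective (by rw [matG_ev h, matG_ev h, Nat.eq_of_beq_eq_true he])

theorem le_card_of_keys (h : elsOk ws cs = true) (ps : List ℕ) (p n : ℕ)
    (hk : keysOk cs ps p n = true) :
    p ^ n ≤ Nat.card (Pc.tailSubgroup (gen ws) n 0) := by
  simp only [keysOk, Bool.and_eq_true, List.all_eq_true] at hk
  have hps : ∀ q ∈ ps, q < 64 := fun q hq => Nat.le_of_ble_eq_true (hk.1 q hq)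
  have hnd := (distinct_sound _ _ hk.2).1
  rw [leaves_eq, List.map_map] at hnd
  refine Pc.le_card_of_nodup matG p n (gen ws) ?_
  refine List.Nodup.map_on (fun u hu w hw e => ?_) (List.Nodup.of_map _ hnd)
  rw [matG_ev h, matG_ev h] at e
  exact List.inj_on_of_nodup_map hnd hu hw (keyOf_eq_of_toM e ps hps)

/-- A prime dividing the order only once. -/
theorem ker_eq_bot_of_once {Γ : Type} [Group Γ] [Finite Γ] {σ : Γ →* G8} {p : ℕ} (hp : p.Prime)
    (h1 : p ∣ Nat.card G8) (h2 : ¬ p ^ 2 ∣ Nat.card G8) (hσ : Cfsg.IsStemExtension σ)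
    (hexp : ∀ z ∈ σ.ker, z ^ p = 1) : σ.ker = ⊥ := by
  haveI : Fact p.Prime := ⟨hp⟩
  obtain ⟨g, hg⟩ := exists_prime_orderOf_dvd_card' (G := G8) p h1
  refine ker_eq_bot_of_index_zpowers hp g (fun hdvd => h2 ?_) σ hσ hexp
  rw [← Subgroup.index_mul_card (Subgroup.zpowers g), Nat.card_zpowers, hg, pow_two]
  exact mul_dvd_mul_right hdvd _

theorem two_part {Γ : Type} [Group Γ] [Finite Γ] {σ : Γ →* G8} (hσ : Cfsg.IsStemExtension σ)
    (hexp : ∀ z ∈ σ.ker, z ^ 2 = 1) : σ.ker = ⊥ := by
  have hrel := rel2_ok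
  simp only [relTwo, Bool.and_eq_true, List.all_eq_true, List.mem_range, Bool.or_eq_true] at hrel
  have hrules : ∀ a b, a ≤ b → b < 12 →
      gen words2 b * gen words2 a = Pc.ev (gen words2) (cert2.rule b a) := fun a b hab hb => by
    have := ev_eq_of_cprod els2_ok (hrel.1 b hb a (by omega))
    rwa [Pc.ev_cons, Pc.ev_cons, Pc.ev_nil, mul_one] at this
  have hge := le_card_of_keys els2_ok pos2 2 12 keys2_ok
  have hshape : Pc.shaped 2 12 cert2.rules = true := by
    have := cert2_lin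
    simp only [Tail.Cert.linCheck, Bool.and_eq_true] at this
    exact this.1.2
  have hle := Pc.card_tailSubgroup_le (gen words2) hshape (fun q hq => by
    simp only [Tail.Cert.rules, List.mem_flatMap, List.mem_map, List.mem_range] at hq
    obtain ⟨b, hb, a, ha, rfl⟩ := hq
    rw [Pc.ev_cons, Pc.ev_cons, Pc.ev_nil, mul_one]
    exact hrules a b (by omega) hb) 12 0 rfl
  obtain ⟨D, -, hD, h⟩ := cert2.ker_pow_mem σ hσ (fun z hz => hexp z hz) cert2_eqs cert2_lin
    (gen words2) hrules (fun f hf => by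
      refine ⟨gen words2 (12 + f), fun s hs hi => ?_⟩
      have h2 := (hrel.2 f hf s hs).resolve_left fun hle => by
        have h3 := Nat.le_of_ble_eq_true hle
        exact absurd hi (Nat.not_lt.2 h3)
      have e := ev_eq_of_cprod els2_ok h2
      simp only [Pc.ev_cons, Pc.ev_nil, mul_one] at e
      rw [e, mul_inv_cancel_right]) hge (fun hdvd => by
      have h1 := Subgroup.index_mul_card (Pc.tailSubgroup (gen words2) 12 0)
      have hdvd' : 2 ∣ (Pc.tailSubgroup (gen words2) 12 0).index := hdvd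
      rw [le_antisymm hle hge, card_G8] at h1
      norm_num at h1
      omega)
  rw [Subgroup.eq_bot_iff_forall]
  intro u hu
  have := h u hu
  rw [hD rfl, one_pow, Subgroup.zpowers_one_eq_bot, Subgroup.mem_bot,
    show cert2.q = 1 from rfl, pow_one] at this
  exact this

theorem three_part {Γ : Type} [Group Γ] [Finite Γ] {σ : Γ →* G8} (hσ : Cfsg.IsStemExtension σ)
    (hexp : ∀ z ∈ σ.ker, z ^ 3 = 1) : σ.ker = ⊥ := by
  have hrel := rel3_ok
  simp only [relOdd, Bool.and_eq_true, List.all_eq_true, List.mem_range] at hrel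
  have hrules : ∀ q ∈ cert3.rules, Pc.ev (gen words3) q.1 = Pc.ev (gen words3) q.2 := fun q hq =>
    ev_eq_of_cprod els3_ok (hrel.1 q hq)
  have hfus : ∀ F ∈ cert3.fus, ∃ g : G8, ∀ s < cert3.fusW,
      g * Pc.ev (gen words3) (F.1.getD s []) * g⁻¹ = Pc.ev (gen words3) (F.2.getD s []) := by
    intro F hF
    obtain ⟨f, hf, rfl⟩ := List.getElem_of_mem hF
    refine ⟨gen words3 (cert3.n + f), fun s hs => ?_⟩
    have e := ev_eq_of_cprod els3_ok (hrel.2 f hf s hs)
    rw [List.getD_eq_getElem cert3.fus _ hf, Pc.ev_cons, Pc.ev_append, Pc.ev_cons, Pc.ev_nil,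
      mul_one] at e
    rw [e, mul_inv_cancel_right]
  have hge := le_card_of_keys els3_ok pos3 3 4 keys3_ok
  have hshape : Pc.shaped 3 4 cert3.rules = true := by
    have := cert3_check
    simp only [Pc.Cert.check, Bool.and_eq_true] at this
    exact this.1.1
  have hle := Pc.card_tailSubgroup_le (gen words3) hshape hrules 4 0 rfl
  refine cert3.ker_eq_bot σ hσ Nat.prime_three hexp cert3_check (gen words3) hrules hfus hge ?_
  intro hdvd
  have h1 := Subgroup.index_mul_card (Pc.tailSubgroup (gen words3) 4 0)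
  have hdvd' : 3 ∣ (Pc.tailSubgroup (gen words3) 4 0).index := hdvd
  rw [le_antisymm hle hge, card_G8] at h1
  norm_num at h1
  omega

theorem hasCyclicSchurMultiplier_G8 : Cfsg.HasCyclicSchurMultiplier G8 1 := by
  refine hasCyclicSchurMultiplier_one G8 fun p hp hdvd Γ _ _ σ hσ hexp => ?_
  have h' : p = 2 ∨ p = 3 ∨ p = 5 ∨ p = 7 ∨ p = 17 := by
    rw [card_G8, show 197406720 = 2 ^ 12 * 3 ^ 4 * 5 * 7 * 17 by norm_num] at hdvd
    simp only [hp.dvd_mul] at hdvd
    have key : ∀ {q k : ℕ}, q.Prime → p ∣ q ^ k → p = q := fun hq h =>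
      (Nat.prime_dvd_prime_iff_eq hp hq).1 (hp.dvd_of_dvd_pow h)
    rcases hdvd with (((h | h) | h) | h) | h
    · exact Or.inl (key Nat.prime_two h)
    · exact Or.inr (Or.inl (key Nat.prime_three h))
    · exact Or.inr (Or.inr (Or.inl ((Nat.prime_dvd_prime_iff_eq hp (by norm_num)).1 h)))
    · exact Or.inr (Or.inr (Or.inr (Or.inl ((Nat.prime_dvd_prime_iff_eq hp (by norm_num)).1 h))))
    · exact Or.inr (Or.inr (Or.inr (Or.inr ((Nat.prime_dvd_prime_iff_eq hp (by norm_num)).1 h))))
  rcases h' with rfl | rfl | rfl | rfl | rfl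
  · exact two_part hσ hexp
  · exact three_part hσ hexp
  all_goals exact ker_eq_bot_of_once hp (by rw [card_G8]; norm_num) (by rw [card_G8]; norm_num) hσ hexp

theorem hasCyclic_of_equiv {G : Type} [Group G] {H : Type*} [Group H]
    (h : Cfsg.HasCyclicSchurMultiplier G 1) (e : G ≃* H) : Cfsg.HasCyclicSchurMultiplier H 1 :=
  CoverTab.hasSchurMultiplier_transfer e h

/-- The multiplier of `PΩ₈⁻(2)` is trivial. -/
theorem hasCyclicSchurMultiplier_POmega_minus_four_two {F : Type*} [Field F] [Fintype F]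
    (hF : Fintype.card F = 2) (a b : F)
    (hab : ∀ z₁ z₂ : F, z₁ ^ 2 + a * z₁ * z₂ + b * z₂ ^ 2 = 0 → z₁ = 0 ∧ z₂ = 0) :
    Cfsg.HasCyclicSchurMultiplier (Cfsg.POmega F (Cfsg.quadFormMinus 3 F a b)) 1 :=
  (equiv_pOmega_field hF a b hab).elim fun e => hasCyclic_of_equiv hasCyclicSchurMultiplier_G8 e

end CfsgLib.OMinusEightTwo
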